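import Mathlib
import Cfsg.Agent.Lib.Helper10.M23H2.Setting
import Cfsg.Agent.Lib.Helper3.OutAut.M23
import Cfsg.Agent.S0051

set_option autoImplicit false

/-!
S2649 leaf LFin: from a complement `A` of `N` in the preimage of a Sylow 2-subgroup (`|A| = 128`) to a complement of `N`
in `E` (Gaschütz, `S0051`).
-/

namespace Cfsg.Agent.Lib.Helper18.M23H2Leaf

open Cfsg Cfsg.Agent.Lib.Helper3.Golay Cfsg.Agent.Lib.Helper10.M23H2

theorem complement_of_core {E : Type*} [Group E] [Finite E] (N : Subgroup E) [hN : N.Normal]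
    (φ : E ⧸ N ≃* ↥Cfsg.Spor.M23)
    (ψ : Additive ↥N →+ (Cfsg.GolayPt → ZMod 2)) (hinj : Function.Injective ψ)
    (A : Subgroup E) (hA : A ⊓ N = ⊥) (hcard : Nat.card A = 128) :
    ∃ H : Subgroup E, H ⊓ N = ⊥ ∧ H ⊔ N = ⊤ := by
  classical
  -- `N` is commutative
  have hcomm : ∀ a b : ↥N, a * b = b * a := by
    intro a b
    have h1 : ψ (Additive.ofMul (a * b)) = ψ (Additive.ofMul (b * a)) := by
      rw [ofMul_mul, ofMul_mul, map_add, map_add, add_comm]
    exact hinj h1
  haveI : IsMulCommutative ↥N := ⟨⟨hcomm⟩⟩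
  -- every element of `N` has order dividing two
  have hsq : ∀ a : ↥N, a ^ 2 = 1 := by
    intro a
    have h1 : ψ (Additive.ofMul (a ^ 2)) = ψ 0 := by
      rw [pow_two, ofMul_mul, map_add, map_zero]
      funext p
      exact CharTwo.add_self_eq_zero _
    exact hinj h1
  have hp : IsPGroup 2 ↥N := fun a => ⟨1, by rw [pow_one]; exact hsq a⟩
  obtain ⟨k, hk⟩ := IsPGroup.iff_card.mp hp
  -- the index of `U = N ⊔ A`
  have hidx : N.index = 10200960 := by
    rw [Subgroup.index_eq_card, Nat.card_congr φ.toEquiv]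
    exact Cfsg.Agent.Lib.Helper3.OutM23.card_M23
  have hrel : N.relIndex (N ⊔ A) = 128 := by
    rw [Subgroup.relIndex_sup_left, ← Subgroup.inf_relIndex_right, inf_comm, hA,
      Subgroup.relIndex_bot_left, hcard]
  have hmul := Subgroup.relIndex_mul_index (le_sup_left : N ≤ N ⊔ A)
  rw [hrel, hidx] at hmul
  have hU : (N ⊔ A).index = 79695 := by omega
  have hcop : (Nat.card ↥N).Coprime (N ⊔ A).index := by
    rw [hk, hU]
    apply Nat.Coprime.pow_left
    decide
  obtain ⟨H, hH⟩ := Cfsg.Agent.S0051.result N (N ⊔ A) le_sup_left hcop A le_sup_right hA rfl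
  refine ⟨H, ?_, ?_⟩
  · rw [inf_comm]
    exact hH.disjoint.eq_bot
  · rw [sup_comm]
    exact hH.sup_eq_top

end Cfsg.Agent.Lib.Helper18.M23H2Leaf
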