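import Mathlib
import Cfsg.Agent.Lib.Helper10.M23H2.Setting

set_option autoImplicit false

/-!
S2649 leaf LS: the abstract `Setting` built from the hypotheses of the statement.
-/

namespace Cfsg.Agent.Lib.Helper18.M23H2Leaf

open Cfsg Cfsg.Agent.Lib.Helper3.Golay Cfsg.Agent.Lib.Helper10.M23H2

theorem setting_of_hyps {E : Type*} [Group E] (N : Subgroup E) [hN : N.Normal]
    (φ : E ⧸ N ≃* ↥Cfsg.Spor.M23)
    (ψ : Additive ↥N →+ (Cfsg.GolayPt → ZMod 2)) (hinj : Function.Injective ψ)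
    (hrange : ∀ w : Cfsg.GolayPt → ZMod 2, w ∈ Set.range ψ ↔ (w ∈ Cfsg.golayCode ∧ w none = 0))
    (hψ : ∀ (g : E) (n : ↥N),
      ψ (Additive.ofMul ⟨g * n * g⁻¹, hN.conj_mem n n.2 g⟩)
        = ψ (Additive.ofMul n) ∘ ⇑(((φ (QuotientGroup.mk g) : ↥Cfsg.Spor.M23) : Equiv.Perm Cfsg.GolayPt)⁻¹)) :
    ∃ S : Setting E, S.N = N := by
  classical
  let pi : E →* Equiv.Perm GolayPt :=
    (Subgroup.subtype Cfsg.Spor.M23).comp (φ.toMonoidHom.comp (QuotientGroup.mk' N))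
  have hpi : ∀ g : E, pi g = ((φ (QuotientGroup.mk g) : ↥Cfsg.Spor.M23) : Equiv.Perm GolayPt) :=
    fun g => rfl
  let psi : E → GolayPt → ZMod 2 :=
    fun g => if h : g ∈ N then ψ (Additive.ofMul ⟨g, h⟩) else 0
  have hpsi : ∀ (g : E) (h : g ∈ N), psi g = ψ (Additive.ofMul ⟨g, h⟩) := by
    intro g h
    simp only [psi, dif_pos h]
  have hmem : ∀ g : E, g ∈ N ↔ pi g = 1 := by
    intro g
    rw [hpi, OneMemClass.coe_eq_one, map_eq_one_iff φ φ.injective, QuotientGroup.eq_one_iff]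
  refine ⟨{ N := N
            pi := pi
            psi := psi
            mem_N := hmem
            psi_mul := ?_
            psi_inj := ?_
            psi_conj := ?_
            psi_mem := ?_
            psi_surj := ?_
            pi_surj := ?_ }, rfl⟩
  · intro a ha b hb
    rw [hpsi a ha, hpsi b hb, hpsi (a * b) (N.mul_mem ha hb), ← map_add]
    rfl
  · intro a ha h0
    rw [hpsi a ha] at h0
    have h1 : (Additive.ofMul (⟨a, ha⟩ : ↥N)) = 0 := hinj (by rw [h0, map_zero])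
    have h2 : (⟨a, ha⟩ : ↥N) = 1 := h1
    exact congrArg Subtype.val h2
  · intro g n hn
    rw [hpsi n hn, hpsi (g * n * g⁻¹) (hN.conj_mem n hn g), hpi]
    exact hψ g ⟨n, hn⟩
  · intro n hn
    rw [hpsi n hn]
    exact (hrange _).mp ⟨_, rfl⟩
  · intro w hw h0
    obtain ⟨x, hx⟩ := (hrange w).mpr ⟨hw, h0⟩
    refine ⟨((Additive.toMul x : ↥N) : E), (Additive.toMul x).2, ?_⟩
    rw [hpsi _ (Additive.toMul x).2, ← hx]
    rfl
  · intro σ hσ
    obtain ⟨x, hx⟩ := φ.surjective ⟨σ, hσ⟩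
    obtain ⟨g, rfl⟩ := QuotientGroup.mk_surjective x
    refine ⟨g, ?_⟩
    rw [hpi, hx]

end Cfsg.Agent.Lib.Helper18.M23H2Leaf
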